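import Mathlib

/-! First homology of the tensor product with a free resolution. -/

universe v

open CategoryTheory MonoidalCategory Limits HomologicalComplex

namespace TensH1Lib

variable {R : Type v} [CommRing R]

theorem isIso_homologyMap {S T : ShortComplex (ModuleCat.{v} R)} (φ : S ⟶ T)
    (hinj : ∀ x, S.g x = 0 → (∃ y, T.f y = φ.τ₂ x) → ∃ w, S.f w = x)
    (hsurj : ∀ x', T.g x' = 0 → ∃ x y', S.g x = 0 ∧ φ.τ₂ x = x' + T.f y') :
    IsIso (ShortComplex.homologyMap φ) := by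
  have key : ∀ z, T.homologyι (ShortComplex.homologyMap φ (S.homologyπ z)) = T.pOpcycles (φ.τ₂ (S.iCycles z)) := by
    intro z
    have h1 : S.homologyπ ≫ ShortComplex.homologyMap φ ≫ T.homologyι = S.iCycles ≫ φ.τ₂ ≫ T.pOpcycles := by
      rw [ShortComplex.homologyπ_naturality_assoc, ShortComplex.homology_π_ι, ShortComplex.cyclesMap_i_assoc]
    exact congrArg (fun f : S.cycles ⟶ T.opcycles => f z) h1
  have keyι : ∀ (U : ShortComplex (ModuleCat.{v} R)) z, U.homologyι (U.homologyπ z) = U.pOpcycles (U.iCycles z) := fun U z =>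
    congrArg (fun f : U.cycles ⟶ U.opcycles => f z) U.homology_π_ι
  rw [ConcreteCategory.isIso_iff_bijective]
  constructor
  · refine (injective_iff_map_eq_zero _).2 fun h hh => ?_
    obtain ⟨z, rfl⟩ := (ModuleCat.epi_iff_surjective S.homologyπ).1 inferInstance h
    have h2 : T.pOpcycles (φ.τ₂ (S.iCycles z)) = 0 := by rw [← key z, hh, map_zero]
    obtain ⟨y, hy⟩ := (ShortComplex.moduleCat_pOpcycles_eq_zero_iff _ _).1 h2
    obtain ⟨w, hw⟩ := hinj (S.iCycles z)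
      (congrArg (fun f : S.cycles ⟶ S.X₃ => f z) S.iCycles_g) ⟨y, hy⟩
    apply (ModuleCat.mono_iff_injective S.homologyι).1 inferInstance
    rw [keyι, map_zero, (ShortComplex.moduleCat_pOpcycles_eq_zero_iff _ _).2 ⟨w, hw⟩]
  · intro h'
    obtain ⟨z', rfl⟩ := (ModuleCat.epi_iff_surjective T.homologyπ).1 inferInstance h'
    obtain ⟨x, y', hx, hφ⟩ := hsurj (T.iCycles z') (congrArg (fun f : T.cycles ⟶ T.X₃ => f z') T.iCycles_g)
    refine ⟨S.homologyπ (S.moduleCatCyclesIso.inv ⟨x, hx⟩), ?_⟩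
    apply (ModuleCat.mono_iff_injective T.homologyι).1 inferInstance
    rw [key, keyι]
    have hi : S.iCycles (S.moduleCatCyclesIso.inv ⟨x, hx⟩) = x :=
      congrArg (fun f : S.moduleCatLeftHomologyData.K ⟶ S.X₂ => f ⟨x, hx⟩) S.moduleCatCyclesIso_inv_iCycles
    rw [hi, ShortComplex.moduleCat_pOpcycles_eq_iff, hφ, add_sub_cancel_left]
    exact ⟨y', rfl⟩

variable (C Q : ChainComplex (ModuleCat.{v} R) ℕ)

/-- summand inclusion -/
noncomputable def inc (p q n : ℕ) (h : p + q = n) : C.X p ⊗ Q.X q ⟶ (C ⊗ Q).X n :=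
  ιTensorObj C Q p q n h

theorem inc_injective (p q n : ℕ) (h : p + q = n) : Function.Injective (inc C Q p q n h) := by
  let r : (C ⊗ Q).X n ⟶ C.X p ⊗ Q.X q :=
    mapBifunctorDesc (F := curriedTensor _) fun i j _ => if hij : i = p ∧ j = q then
      eqToHom (by obtain ⟨rfl, rfl⟩ := hij; rfl) else 0
  have hr : inc C Q p q n h ≫ r = 𝟙 _ := by
    exact (ι_mapBifunctorDesc _ p q h).trans (by rw [dif_pos ⟨rfl, rfl⟩]; rfl)
  intro a b hab
  have := congrArg r hab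
  have h1 : ∀ t, r (inc C Q p q n h t) = t := fun t => congrArg (fun f : C.X p ⊗ Q.X q ⟶ C.X p ⊗ Q.X q => f t) hr
  rwa [h1, h1] at this

theorem inc_span (n : ℕ) (W : Submodule R ((C ⊗ Q).X n))
    (hW : ∀ p q (h : p + q = n) t, inc C Q p q n h t ∈ W) (x : (C ⊗ Q).X n) : x ∈ W := by
  have h0 : (ModuleCat.ofHom W.mkQ : (C ⊗ Q).X n ⟶ ModuleCat.of R (((C ⊗ Q).X n) ⧸ W)) = 0 :=
    mapBifunctor.hom_ext fun p q h => by
      exact ModuleCat.hom_ext (LinearMap.ext fun t => (Submodule.Quotient.mk_eq_zero W).2 (hW p q h t))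
  exact (Submodule.Quotient.mk_eq_zero W).1 (congrArg (fun f : (C ⊗ Q).X n ⟶ ModuleCat.of R (((C ⊗ Q).X n) ⧸ W) => f x) h0)

/-- the sign -/
abbrev sgn (p : ℕ) : ℤˣ := (-1) ^ p

theorem d_inc (p q n : ℕ) (h : p + 1 + (q + 1) = n + 1) :
    inc C Q (p + 1) (q + 1) (n + 1) h ≫ (C ⊗ Q).d (n + 1) n =
      (C.d (p + 1) p ▷ _) ≫ inc C Q p (q + 1) n (by omega) +
        sgn (p + 1) • ((_ ◁ Q.d (q + 1) q) ≫ inc C Q (p + 1) q n (by omega)) := by
  show ιMapBifunctor C Q (curriedTensor _) _ (p + 1) (q + 1) (n + 1) h ≫ (mapBifunctor C Q (curriedTensor _) _).d (n + 1) n = _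
  rw [mapBifunctor.d_eq, Preadditive.comp_add, mapBifunctor.ι_D₁, mapBifunctor.ι_D₂,
    mapBifunctor.d₁_eq _ _ _ _ (show (ComplexShape.down ℕ).Rel (p + 1) p by simp) (q + 1) n (show p + (q + 1) = n by omega),
    mapBifunctor.d₂_eq _ _ _ _ (p + 1) (show (ComplexShape.down ℕ).Rel (q + 1) q by simp) n (show p + 1 + q = n by omega)]
  congr 1
  exact one_smul _ _

theorem d_inc_left (p n : ℕ) (h : p + 1 + 0 = n + 1) :
    inc C Q (p + 1) 0 (n + 1) h ≫ (C ⊗ Q).d (n + 1) n = (C.d (p + 1) p ▷ _) ≫ inc C Q p 0 n (by omega) := by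
  show ιMapBifunctor C Q (curriedTensor _) _ (p + 1) 0 (n + 1) h ≫ (mapBifunctor C Q (curriedTensor _) _).d (n + 1) n = _
  rw [mapBifunctor.d_eq, Preadditive.comp_add, mapBifunctor.ι_D₁, mapBifunctor.ι_D₂,
    mapBifunctor.d₁_eq _ _ _ _ (show (ComplexShape.down ℕ).Rel (p + 1) p by simp) 0 n (show p + 0 = n by omega),
    mapBifunctor.d₂_eq_zero _ _ _ _ (p + 1) 0 n (by simp), add_zero]
  exact one_smul _ _

theorem d_inc_right (q n : ℕ) (h : 0 + (q + 1) = n + 1) :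
    inc C Q 0 (q + 1) (n + 1) h ≫ (C ⊗ Q).d (n + 1) n = (_ ◁ Q.d (q + 1) q) ≫ inc C Q 0 q n (by omega) := by
  show ιMapBifunctor C Q (curriedTensor _) _ 0 (q + 1) (n + 1) h ≫ (mapBifunctor C Q (curriedTensor _) _).d (n + 1) n = _
  rw [mapBifunctor.d_eq, Preadditive.comp_add, mapBifunctor.ι_D₁, mapBifunctor.ι_D₂,
    mapBifunctor.d₁_eq_zero _ _ _ _ 0 (q + 1) n (by simp),
    mapBifunctor.d₂_eq _ _ _ _ 0 (show (ComplexShape.down ℕ).Rel (q + 1) q by simp) n (show 0 + q = n by omega), zero_add]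
  exact one_smul _ _

variable {C Q} {Q' : ChainComplex (ModuleCat.{v} R) ℕ}

theorem inc_map (φ : Q ⟶ Q') (p q n : ℕ) (h : p + q = n) :
    inc C Q p q n h ≫ (C ◁ φ).f n = (C.X p ◁ φ.f q) ≫ inc C Q' p q n h := by
  show ιMapBifunctor C Q (curriedTensor _) _ p q n h ≫ (mapBifunctorMap (𝟙 C) φ _ _).f n = _
  rw [ι_mapBifunctorMap]
  simp [inc]

theorem main (C P : ChainComplex (ModuleCat.{v} R) ℕ) (G : ModuleCat.{v} R) [Module.Flat R (C.X 0)]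
    (π : P ⟶ (ChainComplex.single₀ (ModuleCat.{v} R)).obj G) [QuasiIso π] :
    IsIso (HomologicalComplex.homologyMap (C ◁ π) 1) := by
  let Q := (ChainComplex.single₀ (ModuleCat.{v} R)).obj G
  have hex0 : Function.Exact (P.d 1 0).hom (π.f 0).hom ∧ Function.Surjective (π.f 0).hom := by
    have h : QuasiIsoAt π 0 := inferInstance
    rw [ChainComplex.quasiIsoAt₀_iff, ShortComplex.quasiIso_iff_of_zeros'] at h
    · exact ⟨(ShortComplex.ShortExact.moduleCat_exact_iff_function_exact _).1 h.1, (ModuleCat.epi_iff_surjective _).1 h.2⟩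
    all_goals first | rfl | exact HomologicalComplex.shape _ _ _ (by simp)
  have hex1 : Function.Exact (P.d 2 1).hom (P.d 1 0).hom := by
    have h : QuasiIsoAt π 1 := inferInstance
    rw [quasiIsoAt_iff_exactAt' π 1 (ChainComplex.exactAt_succ_single_obj _ 0),
      P.exactAt_iff' 2 1 0 (by simp) (by simp)] at h
    exact (ShortComplex.ShortExact.moduleCat_exact_iff_function_exact _).1 h
  have hQ : ∀ q, q ≠ 0 → ∀ p (t : (C.X p ⊗ Q.X q : ModuleCat.{v} R)), t = 0 := fun q hq p t => by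
    have : IsZero (C.X p ⊗ Q.X q) := ((tensoringLeft _).obj (C.X p)).map_isZero
      (HomologicalComplex.isZero_single_obj_X _ 0 G q hq)
    exact (ModuleCat.subsingleton_of_isZero this).elim _ _
  have hexT : ∀ p, Function.Exact (C.X p ◁ P.d 1 0).hom (C.X p ◁ π.f 0).hom ∧ Function.Surjective (C.X p ◁ π.f 0).hom :=
    fun p => ⟨lTensor_exact (C.X p) hex0.1 hex0.2, LinearMap.lTensor_surjective (C.X p) hex0.2⟩
  have hexC : Function.Exact (C.X 0 ◁ P.d 2 1).hom (C.X 0 ◁ P.d 1 0).hom := Module.Flat.lTensor_exact (C.X 0) hex1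
  -- element forms
  have dP10 : ∀ a, (C ⊗ P).d 1 0 (inc C P 1 0 1 rfl a) = inc C P 0 0 0 rfl ((C.d 1 0 ▷ _) a) := fun a =>
    congrArg (fun f : C.X 1 ⊗ P.X 0 ⟶ (C ⊗ P).X 0 => f a) (d_inc_left C P 0 0 rfl)
  have dP01 : ∀ b, (C ⊗ P).d 1 0 (inc C P 0 1 1 rfl b) = inc C P 0 0 0 rfl ((C.X 0 ◁ P.d 1 0) b) := fun b =>
    congrArg (fun f : C.X 0 ⊗ P.X 1 ⟶ (C ⊗ P).X 0 => f b) (d_inc_right C P 0 0 rfl)
  have dP20 : ∀ w, (C ⊗ P).d 2 1 (inc C P 2 0 2 rfl w) = inc C P 1 0 1 rfl ((C.d 2 1 ▷ _) w) := fun w =>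
    congrArg (fun f : C.X 2 ⊗ P.X 0 ⟶ (C ⊗ P).X 1 => f w) (d_inc_left C P 1 1 rfl)
  have dP02 : ∀ e, (C ⊗ P).d 2 1 (inc C P 0 2 2 rfl e) = inc C P 0 1 1 rfl ((C.X 0 ◁ P.d 2 1) e) := fun e =>
    congrArg (fun f : C.X 0 ⊗ P.X 2 ⟶ (C ⊗ P).X 1 => f e) (d_inc_right C P 1 1 rfl)
  have dP11 : ∀ c, (C ⊗ P).d 2 1 (inc C P 1 1 2 rfl c) =
      inc C P 0 1 1 rfl ((C.d 1 0 ▷ _) c) - inc C P 1 0 1 rfl ((C.X 1 ◁ P.d 1 0) c) := fun c => by
    refine (congrArg (fun f : C.X 1 ⊗ P.X 1 ⟶ (C ⊗ P).X 1 => f c) (d_inc C P 0 0 1 rfl)).trans ?_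
    simp [sgn, sub_eq_add_neg, Units.smul_def]
  have dQ10 : ∀ a, (C ⊗ Q).d 1 0 (inc C Q 1 0 1 rfl a) = inc C Q 0 0 0 rfl ((C.d 1 0 ▷ _) a) := fun a =>
    congrArg (fun f : C.X 1 ⊗ Q.X 0 ⟶ (C ⊗ Q).X 0 => f a) (d_inc_left C Q 0 0 rfl)
  have dQ20 : ∀ w, (C ⊗ Q).d 2 1 (inc C Q 2 0 2 rfl w) = inc C Q 1 0 1 rfl ((C.d 2 1 ▷ _) w) := fun w =>
    congrArg (fun f : C.X 2 ⊗ Q.X 0 ⟶ (C ⊗ Q).X 1 => f w) (d_inc_left C Q 1 1 rfl)
  have hmap : ∀ p q n (h : p + q = n) t, (C ◁ π).f n (inc C P p q n h t) = inc C Q p q n h ((C.X p ◁ π.f q) t) :=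
    fun p q n h t => congrArg (fun f : C.X p ⊗ P.X q ⟶ (C ⊗ Q).X n => f t) (inc_map π p q n h)
  have exch : ∀ (i j : ℕ) t, (C.X j ◁ π.f 0) ((C.d i j ▷ P.X 0) t) = (C.d i j ▷ Q.X 0) ((C.X i ◁ π.f 0) t) := fun i j t =>
    (congrArg (fun f : C.X i ⊗ P.X 0 ⟶ C.X j ⊗ Q.X 0 => f t) (whisker_exchange (C.d i j) (π.f 0))).symm
  have splitP : ∀ x, ∃ a b, inc C P 1 0 1 rfl a + inc C P 0 1 1 rfl b = x := fun x => by
    have := inc_span C P 1 (LinearMap.range (inc C P 1 0 1 rfl).hom ⊔ LinearMap.range (inc C P 0 1 1 rfl).hom) (fun p q h t => by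
      obtain ⟨rfl, rfl⟩ | ⟨rfl, rfl⟩ : (p = 1 ∧ q = 0) ∨ (p = 0 ∧ q = 1) := by omega
      · exact Submodule.mem_sup_left ⟨t, rfl⟩
      · exact Submodule.mem_sup_right ⟨t, rfl⟩) x
    obtain ⟨_, ⟨a, rfl⟩, _, ⟨b, rfl⟩, h⟩ := Submodule.mem_sup.1 this
    exact ⟨a, b, h⟩
  have splitQ : ∀ n x, ∃ a, inc C Q n 0 n rfl a = x := fun n x =>
    inc_span C Q n (LinearMap.range (inc C Q n 0 n rfl).hom) (fun p q h t => by
      by_cases hq : q = 0
      · subst hq; obtain rfl : p = n := by omega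
        exact ⟨t, rfl⟩
      · rw [hQ q hq p t, map_zero]; exact zero_mem _) x
  have hiso : IsIso (ShortComplex.homologyMap ((shortComplexFunctor' (ModuleCat.{v} R) (ComplexShape.down ℕ) 2 1 0).map (C ◁ π))) := by
    refine isIso_homologyMap _ (fun (x : (C ⊗ P).X 1) hx ⟨(y : (C ⊗ Q).X 2), hy⟩ => ?_) (fun (x' : (C ⊗ Q).X 1) hx' => ?_)
    · change (C ⊗ P).d 1 0 x = 0 at hx
      change (C ⊗ Q).d 2 1 y = (C ◁ π).f 1 x at hy
      show ∃ w : (C ⊗ P).X 2, (C ⊗ P).d 2 1 w = x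
      obtain ⟨a, b, rfl⟩ := splitP x
      obtain ⟨y', rfl⟩ := splitQ 2 y
      obtain ⟨w, rfl⟩ := (hexT 2).2 y'
      have h0 : (C.X 0 ◁ π.f 1) b = 0 := hQ 1 one_ne_zero 0 _
      rw [dQ20, map_add, hmap, hmap, h0, map_zero] at hy
      replace hy := hy.trans (add_zero _)
      rw [← exch] at hy
      have hy' := inc_injective C Q 1 0 1 rfl hy
      obtain ⟨c, hc⟩ := ((hexT 1).1 (a - (C.d 2 1 ▷ _) w)).1 (by
        rw [map_sub]
        exact sub_eq_zero.2 hy'.symm)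
      have hx1 : (C ⊗ P).d 1 0 (inc C P 0 1 1 rfl (b + (C.d 1 0 ▷ _) c)) = 0 := by
        have : inc C P 0 1 1 rfl (b + (C.d 1 0 ▷ _) c) =
            (inc C P 1 0 1 rfl a + inc C P 0 1 1 rfl b) - (C ⊗ P).d 2 1 (inc C P 2 0 2 rfl w - inc C P 1 1 2 rfl c) := by
          rw [map_sub, dP20, dP11, map_add]
          have hc' : (C.X 1 ◁ P.d 1 0) c = a - (C.d 2 1 ▷ _) w := hc
          rw [hc', map_sub]; abel
        rw [this, map_sub, hx, zero_sub, neg_eq_zero]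
        exact congrArg (fun f : (C ⊗ P).X 2 ⟶ (C ⊗ P).X 0 => f _) ((C ⊗ P).d_comp_d 2 1 0)
      rw [dP01] at hx1
      obtain ⟨e, he⟩ := (hexC _).1 ((injective_iff_map_eq_zero _).1 (inc_injective C P 0 0 0 rfl) _ hx1)
      refine ⟨inc C P 2 0 2 rfl w - inc C P 1 1 2 rfl c + inc C P 0 2 2 rfl e, ?_⟩
      rw [map_add, map_sub, dP20, dP11, dP02]
      have hc' : (C.X 1 ◁ P.d 1 0) c = a - (C.d 2 1 ▷ _) w := hc
      have he' : (C.X 0 ◁ P.d 2 1) e = b + (C.d 1 0 ▷ _) c := he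
      rw [hc', he', map_sub, map_add]; abel
    · change (C ⊗ Q).d 1 0 x' = 0 at hx'
      show ∃ (x : (C ⊗ P).X 1) (y' : (C ⊗ Q).X 2), (C ⊗ P).d 1 0 x = 0 ∧ (C ◁ π).f 1 x = x' + (C ⊗ Q).d 2 1 y'
      obtain ⟨a', rfl⟩ := splitQ 1 x'
      obtain ⟨a, rfl⟩ := (hexT 1).2 a'
      rw [dQ10, ← exch] at hx'
      obtain ⟨b, hb⟩ := ((hexT 0).1 _).1 ((injective_iff_map_eq_zero _).1 (inc_injective C Q 0 0 0 rfl) _ hx')
      refine ⟨inc C P 1 0 1 rfl a - inc C P 0 1 1 rfl b, 0, ?_, ?_⟩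
      · have hb' : (C.X 0 ◁ P.d 1 0) b = (C.d 1 0 ▷ _) a := hb
        rw [map_sub, dP10, dP01, hb', sub_self]
      · rw [map_sub, hmap, hmap, hQ 1 one_ne_zero 0 ((C.X 0 ◁ π.f 1) b), map_zero, sub_zero, map_zero]
        exact (add_zero _).symm
  rw [← quasiIsoAt_iff_isIso_homologyMap, quasiIsoAt_iff' (C ◁ π) 2 1 0 (by simp) (by simp), ShortComplex.quasiIso_iff]
  exact hiso

end TensH1Lib
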